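import Mathlib
import Groth.Agent.Lib.Helper24.OpenAt.Main4921

/-!
# Fibre dimensions along generizations for open morphisms (helper24)
-/

set_option autoImplicit false
set_option linter.style.haveILetI false
universe u
open scoped Cardinal
open AlgebraicGeometry CategoryTheory TopologicalSpace Topology
open Groth.Agent.Lib.Helper7 Groth.Agent.Lib.lead Groth.Agent.Lib.Helper18
open Groth.Agent.Lib.Helper24.FibreDim Groth.Agent.Lib.Helper24.OpenAt

namespace Groth.Agent.Lib.Helper24.OpenConst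

variable {X Y : Scheme.{u}}

theorem isOpenAt_of_isOpenMap {α β : Type*} [TopologicalSpace α] [TopologicalSpace β] (f : α → β)
    (hf : IsOpenMap f) (x : α) : EGA43.IsOpenAt f x := by
  intro U hU
  exact hf.image_mem_nhds hU

/-- The generization provided by the core lemma is maximal in its fibre. -/
theorem isFibreMax_of_tr_eq (f : X ⟶ Y) [LocallyOfFiniteType f] (ζ ξ' : X)
    (hmax : ∀ z' : X, f z' = f ζ → z' ⤳ ζ → z' = ζ) (hξ'ζ : ξ' ⤳ ζ) (htr : tr f ξ' = tr f ζ) :
    ∀ ξ₀ : X, f ξ₀ = f ξ' → ξ₀ ⤳ ξ' → ξ₀ = ξ' := by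
  intro ξ₀ hf hξ₀
  by_contra hne
  have hlt : ξ' < ξ₀ := by
    rw [lt_iff_le_not_ge]
    refine ⟨hξ₀, fun hge => hne ?_⟩
    have hge' : ξ' ⤳ ξ₀ := hge
    exact (hξ₀.antisymm hge').eq
  have h1 := tr_lt_of_lt f hlt hf.symm
  have h2 : tr f ξ₀ ≤ tr f ζ := by
    have h3 := fibreDimAt_mono f (hξ₀.trans hξ'ζ)
    rw [fibreDimAt_of_max f ζ hmax] at h3
    have h4 := tr_le_fibreDimAt f (specializes_refl ξ₀) rfl
    have h5 := h4.trans h3
    exact_mod_cast h5
  omega

theorem fibre_max_of_fiberι_max (f : X ⟶ Y) (y : Y) (ξF : f.fiber y)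
    (hmax : ∀ z' : X, f z' = f (f.fiberι y ξF) → z' ⤳ f.fiberι y ξF → z' = f.fiberι y ξF) :
    ∀ w : f.fiber y, w ⤳ ξF → w = ξF := by
  intro w hw
  apply (f.fiberι y).isEmbedding.injective
  have h1 : ∀ v : f.fiber y, f (f.fiberι y v) = y := by
    intro v
    have : f.fiberι y v ∈ Set.range (f.fiberι y) := ⟨v, rfl⟩
    rw [f.range_fiberι] at this
    exact this
  exact hmax _ ((h1 w).trans (h1 ξF).symm) (hw.map (f.fiberι y).continuous)

/-- If `f` is open at all points of the fibre over `y` and `z` is a generization of `y`, then every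
dimension of an irreducible component of `X_y` is the dimension of a component of `X_z`. -/
theorem E_subset_of_specializes [IsLocallyNoetherian Y] (f : X ⟶ Y) [LocallyOfFiniteType f]
    (y z : Y) (hzy : z ⤳ y) (h : ∀ x : X, f.base x = y → EGA43.IsOpenAt f.base x) :
    ((fun Z : Set ↥(f.fiber y) => topologicalKrullDim ↥Z) '' irreducibleComponents ↥(f.fiber y)) ⊆
      ((fun Z : Set ↥(f.fiber z) => topologicalKrullDim ↥Z) ''
        irreducibleComponents ↥(f.fiber z)) := by
  rintro d ⟨ZF, hZF, rfl⟩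
  obtain ⟨ζF, hζF⟩ := QuasiSober.sober hZF.1 (isClosed_of_mem_irreducibleComponents ZF hZF)
  obtain rfl : closure ({ζF} : Set (f.fiber y)) = ZF := hζF.def
  have hζFmax : ∀ w : f.fiber y, w ⤳ ζF → w = ζF :=
    (AffPts.closure_mem_irreducibleComponents_iff ζF).mp hZF
  set ζ : X := f.fiberι y ζF with hζ
  have hfζ : f ζ = y := by
    have : ζ ∈ Set.range (f.fiberι y) := ⟨ζF, rfl⟩
    rw [f.range_fiberι] at this
    exact this
  have hζmax := fiberι_max_of_max f y ζF hζFmax
  have hdimZ := dim_closure_fibre_point f y ζ hfζ ζF rfl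
  have hop := h ζ hfζ
  obtain ⟨ξ', hξ'ζ, hfξ', htr⟩ := exists_gen_tr_eq f ζ hζmax hop z (hfζ ▸ hzy)
  have hξ'max := isFibreMax_of_tr_eq f ζ ξ' hζmax hξ'ζ htr
  obtain ⟨ξF, hξF⟩ := exists_fibre_point f ξ' z hfξ'
  have hξFmax : ∀ w : f.fiber z, w ⤳ ξF → w = ξF :=
    fibre_max_of_fiberι_max f z ξF (by rw [hξF]; exact hξ'max)
  refine ⟨closure {ξF}, (AffPts.closure_mem_irreducibleComponents_iff ξF).mpr hξFmax, ?_⟩
  show topologicalKrullDim ↥(closure ({ξF} : Set (f.fiber z))) =
    topologicalKrullDim ↥(closure ({ζF} : Set (f.fiber y)))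
  rw [hdimZ, dim_closure_fibre_point f z ξ' hfξ' ξF hξF, htr]

/-- The fibre dimension does not decrease under generization along an open morphism. -/
theorem dim_fiber_le_of_specializes [IsLocallyNoetherian Y] (f : X ⟶ Y) [LocallyOfFiniteType f]
    (y z : Y) (hzy : z ⤳ y) (h : ∀ x : X, f.base x = y → EGA43.IsOpenAt f.base x) :
    topologicalKrullDim ↥(f.fiber y) ≤ topologicalKrullDim ↥(f.fiber z) := by
  apply dim_le_of_components
  intro W hW
  obtain ⟨W', hW', hdim⟩ := E_subset_of_specializes f y z hzy h ⟨W, hW, rfl⟩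
  have hdim' : topologicalKrullDim ↥W' = topologicalKrullDim ↥W := hdim
  rw [← hdim']
  exact topologicalKrullDim_subspace_le _ W'

end Groth.Agent.Lib.Helper24.OpenConst
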