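import Mathlib
import Groth.Agent.Lib.Helper24.OpenConst.Mono
import Groth.Agent.Lib.Helper27.NoethLfp
import Groth.Agent.Lib.helper11.ConstrTop

/-!
# Constructibility of the loci of fibre dimension (helper24)
-/

set_option autoImplicit false
set_option linter.style.haveILetI false
universe u
open scoped Cardinal
open AlgebraicGeometry CategoryTheory TopologicalSpace Topology
open Groth.Agent.Lib.Helper7 Groth.Agent.Lib.lead Groth.Agent.Lib.Helper18
open Groth.Agent.Lib.Helper24.FibreDim Groth.Agent.Lib.Helper24.OpenAt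

namespace Groth.Agent.Lib.Helper24.OpenConst

variable {X Y : Scheme.{u}}

theorem fibreDimAt_ne_bot (f : X ⟶ Y) [LocallyOfFiniteType f] (x : X) :
    FlatMor.fibreDimAt f x ≠ ⊥ := by
  rw [fibreDimAt_eq_tr_add_G]
  exact WithBot.coe_ne_bot

/-- `k ≤ dim X_z` iff some point of the fibre has local fibre dimension at least `k`. -/
theorem le_dim_fiber_iff (f : X ⟶ Y) [LocallyOfFiniteType f] (z : Y) (k : ℕ) :
    (k : WithBot ℕ∞) ≤ topologicalKrullDim ↥(f.fiber z) ↔
      ∃ x : X, f x = z ∧ (k : WithBot ℕ∞) ≤ FlatMor.fibreDimAt f x := by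
  constructor
  · intro hk
    by_contra hcon
    push_neg at hcon
    cases k with
    | zero =>
      have h1 : topologicalKrullDim ↥(f.fiber z) ≤ ⊥ := by
        apply dim_fiber_le
        intro x hx
        exfalso
        have h2 := hcon x hx
        obtain ⟨d, hd⟩ := Chev.exists_nat_fibreDimAt f x
        rw [hd] at h2
        have : (d : ℕ) < 0 := by exact_mod_cast h2
        omega
      rw [le_bot_iff] at h1
      rw [h1] at hk
      simp at hk
    | succ k =>
      have h1 : topologicalKrullDim ↥(f.fiber z) ≤ (k : WithBot ℕ∞) := by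
        apply dim_fiber_le
        intro x hx
        have h2 := hcon x hx
        obtain ⟨d, hd⟩ := Chev.exists_nat_fibreDimAt f x
        rw [hd] at h2 ⊢
        have : (d : ℕ) < k + 1 := by exact_mod_cast h2
        have : d ≤ k := by omega
        exact_mod_cast this
      have h3 := hk.trans h1
      have : k + 1 ≤ k := by exact_mod_cast h3
      omega
  · rintro ⟨x, rfl, hx⟩
    exact hx.trans (Groth.Agent.Lib.Helper21.TopDim.localDim_le _)

/-- The locus where the fibre has dimension at least `k` is the image of a closed set. -/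
theorem setOf_le_dim_fiber_eq (f : X ⟶ Y) [LocallyOfFiniteType f] (k : ℕ) :
    {z : Y | (k : WithBot ℕ∞) ≤ topologicalKrullDim ↥(f.fiber z)} =
      f '' {x : X | (k : WithBot ℕ∞) ≤ FlatMor.fibreDimAt f x} := by
  ext z
  simp only [Set.mem_setOf_eq, Set.mem_image]
  rw [le_dim_fiber_iff]
  constructor
  · rintro ⟨x, hx, hk⟩; exact ⟨x, hk, hx⟩
  · rintro ⟨x, hk, hx⟩; exact ⟨x, hx, hk⟩

theorem isClosed_setOf_le_fibreDimAt (f : X ⟶ Y) [LocallyOfFiniteType f] (k : ℕ) :
    IsClosed {x : X | (k : WithBot ℕ∞) ≤ FlatMor.fibreDimAt f x} := by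
  cases k with
  | zero =>
    have : {x : X | ((0 : ℕ) : WithBot ℕ∞) ≤ FlatMor.fibreDimAt f x} = Set.univ := by
      ext x
      simp only [Set.mem_setOf_eq, Set.mem_univ, iff_true]
      obtain ⟨d, hd⟩ := Chev.exists_nat_fibreDimAt f x
      rw [hd]
      exact_mod_cast Nat.zero_le d
    rw [this]
    exact isClosed_univ
  | succ k =>
    have : {x : X | ((k + 1 : ℕ) : WithBot ℕ∞) ≤ FlatMor.fibreDimAt f x} =
        {x : X | FlatMor.fibreDimAt f x ≤ k}ᶜ := by
      ext x
      simp only [Set.mem_setOf_eq, Set.mem_compl_iff]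
      obtain ⟨d, hd⟩ := Chev.exists_nat_fibreDimAt f x
      rw [hd]
      constructor
      · intro h1 h2
        have a : k + 1 ≤ d := by exact_mod_cast h1
        have b : d ≤ k := by exact_mod_cast h2
        omega
      · intro h1
        have : ¬ d ≤ k := fun h => h1 (by exact_mod_cast h)
        have : k + 1 ≤ d := by omega
        exact_mod_cast this
    rw [this]
    exact (Chev.isOpen_fibreDimAt_le f k).isClosed_compl

theorem isLocallyConstructible_compl {T : Type*} [TopologicalSpace T] {s : Set T}
    (hs : IsLocallyConstructible s) : IsLocallyConstructible sᶜ := by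
  intro x
  obtain ⟨U, hxU, hU, hsU⟩ := hs x
  exact ⟨U, hxU, hU, hsU.compl⟩

/-- A closed subset of a locally Noetherian scheme is locally constructible. -/
theorem isLocallyConstructible_of_isClosed [IsLocallyNoetherian X] (F : Set X) (hF : IsClosed F) :
    IsLocallyConstructible F := by
  intro x
  obtain ⟨W, hW, hxW, -⟩ := Opens.isBasis_iff_nbhd.mp X.isBasis_affineOpens
    (show x ∈ (⊤ : X.Opens) from trivial)
  haveI : IsNoetherianRing Γ(X, W) := IsLocallyNoetherian.component_noetherian ⟨W, hW⟩
  haveI : NoetherianSpace ↥(W : Set X) := noetherianSpace_of_isAffineOpen W hW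
  refine ⟨(W : Set X), W.isOpen.mem_nhds hxW, W.isOpen, ?_⟩
  exact Groth.Agent.Lib.helper11.ConstrTop.isConstructible_of_isClosed
    (hF.preimage continuous_subtype_val)

/-- **Constructibility** of the locus where the fibre has dimension at least `k`. -/
theorem isLocallyConstructible_setOf_le_dim_fiber [IsLocallyNoetherian Y] (f : X ⟶ Y)
    [LocallyOfFiniteType f] [QuasiCompact f] (k : ℕ) :
    IsLocallyConstructible {z : Y | (k : WithBot ℕ∞) ≤ topologicalKrullDim ↥(f.fiber z)} := by
  haveI := Groth.Agent.Lib.Helper27.NoethLfp.locallyOfFinitePresentation_of_isLocallyNoetherian f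
  rw [setOf_le_dim_fiber_eq]
  apply f.isLocallyConstructible_image
  haveI : IsLocallyNoetherian X := LocallyOfFiniteType.isLocallyNoetherian f
  exact isLocallyConstructible_of_isClosed _ (isClosed_setOf_le_fibreDimAt f k)

end Groth.Agent.Lib.Helper24.OpenConst
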