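import Mathlib
import Groth.Agent.Lib.Helper24.OpenConst.Constr

/-!
# Neighbourhood criterion for locally constructible sets (helper24)
-/

set_option autoImplicit false
set_option linter.style.haveILetI false
universe u
open scoped Cardinal
open AlgebraicGeometry CategoryTheory TopologicalSpace Topology
open Groth.Agent.Lib.Helper7 Groth.Agent.Lib.lead Groth.Agent.Lib.Helper18
open Groth.Agent.Lib.Helper24.FibreDim Groth.Agent.Lib.Helper24.OpenAt

namespace Groth.Agent.Lib.Helper24.OpenConst

variable {X Y : Scheme.{u}}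

/-- A locally constructible subset of a locally Noetherian scheme containing all generizations of
`y` is a neighbourhood of `y` (EGA 0_III 9.2.5). -/
theorem mem_nhds_of_isLocallyConstructible [IsLocallyNoetherian Y] (T : Set Y)
    (hT : IsLocallyConstructible T) (y : Y) (hgen : ∀ z : Y, z ⤳ y → z ∈ T) : T ∈ 𝓝 y := by
  obtain ⟨U, hyU, hUopen, hUc⟩ := hT y
  obtain ⟨W, hW, hyW, hWU⟩ := Opens.isBasis_iff_nbhd.mp Y.isBasis_affineOpens
    (show y ∈ (⟨U, hUopen⟩ : Y.Opens) from mem_of_mem_nhds hyU)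
  haveI : IsNoetherianRing Γ(Y, W) := IsLocallyNoetherian.component_noetherian ⟨W, hW⟩
  haveI : NoetherianSpace ↥(W : Set Y) := noetherianSpace_of_isAffineOpen W hW
  haveI : QuasiSober ↥(W : Set Y) := W.isOpen.isOpenEmbedding_subtypeVal.quasiSober
  have hWU' : (W : Set Y) ⊆ U := hWU
  -- the trace of `T` on `W` is constructible
  have hEW : IsConstructible (Subtype.val ⁻¹' T : Set ↥(W : Set Y)) := by
    have hj : IsOpenEmbedding (Set.inclusion hWU') :=
      IsOpenEmbedding.of_comp _ hUopen.isOpenEmbedding_subtypeVal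
        (by exact W.isOpen.isOpenEmbedding_subtypeVal)
    exact (hUc.preimage_of_isOpenEmbedding hj :)
  have hnhds : (Subtype.val ⁻¹' T : Set ↥(W : Set Y)) ∈ 𝓝 (⟨y, hyW⟩ : ↥(W : Set Y)) := by
    rw [Groth.Agent.Lib.helper11.ConstrTop.mem_nhds_iff_forall_irreducible _ hEW]
    intro Z hZc hZi hyZ
    obtain ⟨η, hη⟩ := QuasiSober.sober hZi hZc
    refine Groth.Agent.Lib.helper11.ConstrTop.subset_closure_of_genericPoint_mem hη ?_
    have h1 : η ⤳ (⟨y, hyW⟩ : ↥(W : Set Y)) := hη.specializes hyZ
    exact hgen η.1 (h1.map continuous_subtype_val)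
  -- push forward to `Y`
  have := W.isOpen.isOpenEmbedding_subtypeVal.isOpenMap.image_mem_nhds hnhds
  refine Filter.mem_of_superset this ?_
  rintro _ ⟨a, ha, rfl⟩
  exact ha

end Groth.Agent.Lib.Helper24.OpenConst
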