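import Mathlib
import Groth.Agent.Lib.Helper24.OpenConst.Nhds

/-!
# Local constancy of fibre dimensions for open morphisms: key lemmas (helper24)
-/

set_option autoImplicit false
set_option linter.style.haveILetI false
universe u
open scoped Cardinal
open AlgebraicGeometry CategoryTheory TopologicalSpace Topology
open Groth.Agent.Lib.Helper7 Groth.Agent.Lib.lead Groth.Agent.Lib.Helper18
open Groth.Agent.Lib.Helper24.FibreDim Groth.Agent.Lib.Helper24.OpenAt

namespace Groth.Agent.Lib.Helper24.OpenConst

variable {X Y : Scheme.{u}}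

/-- The fibres of a quasi-compact morphism locally of finite type are finite dimensional. -/
theorem exists_nat_dim_fiber_le (f : X ⟶ Y) [LocallyOfFiniteType f] [QuasiCompact f] (y : Y) :
    ∃ m : ℕ, topologicalKrullDim ↥(f.fiber y) ≤ (m : WithBot ℕ∞) := by
  let V : ℕ → Set (f.fiber y) := fun m =>
    (f.fiberι y) ⁻¹' {x : X | FlatMor.fibreDimAt f x ≤ (m : WithBot ℕ∞)}
  have hVo : ∀ m, IsOpen (V m) := fun m =>
    (Chev.isOpen_fibreDimAt_le f m).preimage (f.fiberι y).continuous
  have hcov : (Set.univ : Set (f.fiber y)) ⊆ ⋃ m, V m := by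
    intro w _
    obtain ⟨d, hd⟩ := Chev.exists_nat_fibreDimAt f (f.fiberι y w)
    exact Set.mem_iUnion.mpr ⟨d, le_of_eq hd⟩
  have hdir : Directed (· ⊆ ·) V := by
    apply Monotone.directed_le
    intro a b hab w hw
    have hw' : FlatMor.fibreDimAt f (f.fiberι y w) ≤ (a : WithBot ℕ∞) := hw
    exact hw'.trans (by exact_mod_cast hab)
  obtain ⟨m, hm⟩ := isCompact_univ.elim_directed_cover V hVo hcov hdir
  refine ⟨m, dim_fiber_le f y _ ?_⟩
  intro x hx
  obtain ⟨w, hw⟩ := exists_fibre_point f x y hx
  have := hm (Set.mem_univ w)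
  rw [← hw]
  exact this

/-- **Lower bound**: for an open morphism, fibre dimension does not drop near `y`. -/
theorem nhds_le_dim_fiber [IsLocallyNoetherian Y] (f : X ⟶ Y) [LocallyOfFiniteType f]
    [QuasiCompact f] (y : Y) (h : ∀ x : X, f.base x = y → EGA43.IsOpenAt f.base x) :
    {z : Y | topologicalKrullDim ↥(f.fiber y) ≤ topologicalKrullDim ↥(f.fiber z)} ∈ 𝓝 y := by
  obtain ⟨m, hm⟩ := exists_nat_dim_fiber_le f y
  cases hn : topologicalKrullDim ↥(f.fiber y) with
  | bot =>
    have : {z : Y | (⊥ : WithBot ℕ∞) ≤ topologicalKrullDim ↥(f.fiber z)} = Set.univ := by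
      ext z; simp
    rw [this]
    exact Filter.univ_mem
  | coe a =>
    cases a with
    | top =>
      exfalso
      rw [hn] at hm
      have h1 : (⊤ : ℕ∞) ≤ (m : ℕ∞) := WithBot.coe_le_coe.mp hm
      exact absurd (top_le_iff.mp h1) (ENat.natCast_ne_top m)
    | coe k =>
      have hset : {z : Y | (((k : ℕ) : ℕ∞) : WithBot ℕ∞) ≤ topologicalKrullDim ↥(f.fiber z)} =
          {z : Y | ((k : ℕ) : WithBot ℕ∞) ≤ topologicalKrullDim ↥(f.fiber z)} := rfl
      show {z : Y | (((k : ℕ) : ℕ∞) : WithBot ℕ∞) ≤ topologicalKrullDim ↥(f.fiber z)} ∈ 𝓝 y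
      rw [hset]
      apply mem_nhds_of_isLocallyConstructible _ (isLocallyConstructible_setOf_le_dim_fiber f k)
      intro z hz
      have := dim_fiber_le_of_specializes f y z hz h
      rw [hn] at this
      exact this

/-- **Upper bound**: a bound on the fibre dimension valid at all generizations of `y` is valid
near `y`. -/
theorem nhds_dim_fiber_le [IsLocallyNoetherian Y] (f : X ⟶ Y) [LocallyOfFiniteType f]
    [QuasiCompact f] (y : Y) (n : WithBot ℕ∞) (hn : n ≠ ⊤)
    (hgen : ∀ z : Y, z ⤳ y → topologicalKrullDim ↥(f.fiber z) ≤ n) :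
    {z : Y | topologicalKrullDim ↥(f.fiber z) ≤ n} ∈ 𝓝 y := by
  have key : ∀ k : ℕ, (∀ d : WithBot ℕ∞, d ≤ n ↔ ¬ ((k : ℕ) : WithBot ℕ∞) ≤ d) →
      {z : Y | topologicalKrullDim ↥(f.fiber z) ≤ n} ∈ 𝓝 y := by
    intro k hk
    have hset : {z : Y | topologicalKrullDim ↥(f.fiber z) ≤ n} =
        {z : Y | ((k : ℕ) : WithBot ℕ∞) ≤ topologicalKrullDim ↥(f.fiber z)}ᶜ := by
      ext z
      simp only [Set.mem_setOf_eq, Set.mem_compl_iff]
      exact hk _
    rw [hset]
    apply mem_nhds_of_isLocallyConstructible _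
      (isLocallyConstructible_compl (isLocallyConstructible_setOf_le_dim_fiber f k))
    intro z hz
    rw [← hset]
    exact hgen z hz
  cases n with
  | bot =>
    apply key 0
    intro d
    cases d with
    | bot => simp
    | coe a =>
      simp only [le_bot_iff, WithBot.coe_ne_bot, false_iff, not_not]
      show (((0 : ℕ) : ℕ∞) : WithBot ℕ∞) ≤ ((a : ℕ∞) : WithBot ℕ∞)
      exact WithBot.coe_le_coe.mpr (by simp)
  | coe a =>
    cases a with
    | top => exact absurd rfl hn
    | coe k =>
      apply key (k + 1)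
      intro d
      cases d with
      | bot => simp
      | coe b =>
        cases b with
        | top =>
          constructor
          · intro h1
            exfalso
            have h2 : (⊤ : ℕ∞) ≤ (k : ℕ∞) := WithBot.coe_le_coe.mp h1
            exact absurd (top_le_iff.mp h2) (ENat.natCast_ne_top k)
          · intro h1
            exfalso
            apply h1
            show (((k + 1 : ℕ) : ℕ∞) : WithBot ℕ∞) ≤ ((⊤ : ℕ∞) : WithBot ℕ∞)
            exact WithBot.coe_le_coe.mpr le_top
        | coe j =>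
          constructor
          · intro h1 h2
            have a1 : j ≤ k := by exact_mod_cast h1
            have a2 : k + 1 ≤ j := by exact_mod_cast h2
            omega
          · intro h1
            have : ¬ k + 1 ≤ j := fun h2 => h1 (by exact_mod_cast h2)
            have : j ≤ k := by omega
            exact_mod_cast this

end Groth.Agent.Lib.Helper24.OpenConst
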