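import Mathlib
import Groth.Agent.Lib.Helper24.OpenConst.Key

/-!
# EGA IV 14.2.5 (i): local constancy of the fibre dimension for open morphisms (helper24)
-/

set_option autoImplicit false
set_option linter.style.haveILetI false
universe u
open scoped Cardinal
open AlgebraicGeometry CategoryTheory TopologicalSpace Topology
open Groth.Agent.Lib.Helper7 Groth.Agent.Lib.lead Groth.Agent.Lib.Helper18
open Groth.Agent.Lib.Helper24.FibreDim Groth.Agent.Lib.Helper24.OpenAt

namespace Groth.Agent.Lib.Helper24.OpenConst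

variable {X Y : Scheme.{u}}

theorem dim_fiber_ne_top (f : X ⟶ Y) [LocallyOfFiniteType f] [QuasiCompact f] (y : Y) :
    topologicalKrullDim ↥(f.fiber y) ≠ ⊤ := by
  obtain ⟨m, hm⟩ := exists_nat_dim_fiber_le f y
  intro h
  rw [h] at hm
  have h1 : (⊤ : ℕ∞) ≤ (m : ℕ∞) := WithBot.coe_le_coe.mp hm
  exact absurd (top_le_iff.mp h1) (ENat.natCast_ne_top m)

theorem main4922 [IsLocallyNoetherian Y]
    (f : X ⟶ Y) [LocallyOfFiniteType f] [QuasiCompact f] (hf : IsOpenMap f.base) (y : Y)
    (h : ∀ η : Y, y ∈ closure {η} → closure {η} ∈ irreducibleComponents (Y : Type u) →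
      topologicalKrullDim ↥(f.fiber y) = topologicalKrullDim ↥(f.fiber η)) :
    ∃ V ∈ nhds y, ∀ z ∈ V,
      topologicalKrullDim ↥(f.fiber z) = topologicalKrullDim ↥(f.fiber y) := by
  have hop : ∀ x : X, EGA43.IsOpenAt f.base x := fun x => isOpenAt_of_isOpenMap _ hf x
  have h1 := nhds_le_dim_fiber f y (fun x _ => hop x)
  have h2 := nhds_dim_fiber_le f y (topologicalKrullDim ↥(f.fiber y)) (dim_fiber_ne_top f y) (by
    intro z hz
    obtain ⟨η, hzη, hηmax⟩ := FibreOrder.exists_isMax_ge z
    have hηz : η ⤳ z := Scheme.le_iff_specializes.mp hzη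
    have hcomp : closure ({η} : Set Y) ∈ irreducibleComponents (Y : Type u) := by
      rw [AffPts.closure_mem_irreducibleComponents_iff]
      intro y' hy'
      have a1 : η ≤ y' := Scheme.le_iff_specializes.mpr hy'
      have a2 : y' ≤ η := hηmax a1
      exact (hy'.antisymm (Scheme.le_iff_specializes.mp a2)).eq
    have hyη : y ∈ closure ({η} : Set Y) := specializes_iff_mem_closure.mp (hηz.trans hz)
    rw [h η hyη hcomp]
    exact dim_fiber_le_of_specializes f z η hηz (fun x _ => hop x))
  refine ⟨_, Filter.inter_mem h1 h2, ?_⟩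
  rintro z ⟨hz1, hz2⟩
  exact le_antisymm hz2 hz1

end Groth.Agent.Lib.Helper24.OpenConst
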