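import Mathlib
import Groth.Agent.Lib.Helper24.OpenConst.Main4922

/-!
# EGA IV 14.2.5 (iii): an open neighbourhood of the fibre with locally constant fibre dimension
(helper24)
-/

set_option autoImplicit false
set_option linter.style.haveILetI false
universe u
open scoped Cardinal
open AlgebraicGeometry CategoryTheory TopologicalSpace Topology
open Groth.Agent.Lib.Helper7 Groth.Agent.Lib.lead Groth.Agent.Lib.Helper18
open Groth.Agent.Lib.Helper24.FibreDim Groth.Agent.Lib.Helper24.OpenAt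

namespace Groth.Agent.Lib.Helper24.OpenConst

variable {X Y : Scheme.{u}}

/-- The trace of a fibre of `f` on an open subscheme is the fibre of the restriction. -/
theorem dim_inter_fibre_eq (U : X.Opens) (f : X ⟶ Y) (z : Y) :
    topologicalKrullDim ↥((U : Set X) ∩ f ⁻¹' {z}) =
      topologicalKrullDim ↥((U.ι ≫ f).fiber z) := by
  set φ := (U.ι ≫ f).fiberHomeo z with hφ
  let ψ : ↥((U.ι ≫ f) ⁻¹' {z}) → ↥((U : Set X) ∩ f ⁻¹' {z}) := fun a =>
    ⟨U.ι a.1, ⟨by simp, a.2⟩⟩
  have hψc : Continuous ψ := Continuous.subtype_mk (U.ι.continuous.comp continuous_subtype_val) _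
  have hψ : IsHomeomorph ψ := by
    rw [isHomeomorph_iff_isEmbedding_surjective]
    refine ⟨⟨?_, ?_⟩, ?_⟩
    · refine IsInducing.of_comp hψc continuous_subtype_val ?_
      exact U.ι.isOpenEmbedding.isInducing.comp IsInducing.subtypeVal
    · intro a b hab
      apply Subtype.ext
      apply U.ι.isOpenEmbedding.injective
      exact congrArg (fun c : ↥((U : Set X) ∩ f ⁻¹' {z}) => c.1) hab
    · rintro ⟨x, hxU, hxz⟩
      refine ⟨⟨⟨x, hxU⟩, ?_⟩, ?_⟩
      · exact hxz
      · rfl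
  rw [← hψ.topologicalKrullDim_eq, ← φ.isHomeomorph.topologicalKrullDim_eq]

theorem dim_preimage_eq (f : X ⟶ Y) (z : Y) :
    topologicalKrullDim ↥(f ⁻¹' {z}) = topologicalKrullDim ↥(f.fiber z) :=
  ((f.fiberHomeo z).isHomeomorph.topologicalKrullDim_eq).symm

theorem main4924 [IsLocallyNoetherian Y]
    (f : X ⟶ Y) [LocallyOfFiniteType f] [QuasiCompact f] (hf : IsOpenMap f.base) (y : Y) :
    ∃ U : X.Opens, f.base ⁻¹' {y} ⊆ (U : Set X) ∧ ∃ V ∈ nhds y, ∀ z ∈ V,
      topologicalKrullDim ↥((U : Set X) ∩ f.base ⁻¹' {z}) =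
        topologicalKrullDim ↥((U : Set X) ∩ f.base ⁻¹' {y}) := by
  haveI : IsLocallyNoetherian X := LocallyOfFiniteType.isLocallyNoetherian f
  set n := topologicalKrullDim ↥(f.fiber y) with hn
  let U : X.Opens := ⟨{x : X | FlatMor.fibreDimAt f x ≤ n}, isOpen_fibreDimAt_le' f n⟩
  have hyU : f.base ⁻¹' {y} ⊆ (U : Set X) := by
    intro x hx
    have hx' : f x = y := hx
    subst hx'
    exact Groth.Agent.Lib.Helper21.TopDim.localDim_le _
  refine ⟨U, hyU, ?_⟩
  -- the restriction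
  have hgop : ∀ x : U.toScheme, EGA43.IsOpenAt (U.ι ≫ f).base x := by
    intro x
    apply isOpenAt_of_isOpenMap
    have : ((U.ι ≫ f).base : U.toScheme → Y) = f.base ∘ U.ι.base := by
      ext a; rfl
    rw [this]
    exact hf.comp U.ι.isOpenEmbedding.isOpenMap
  have hdimy : topologicalKrullDim ↥((U.ι ≫ f).fiber y) = n := by
    rw [← dim_inter_fibre_eq U f y, Set.inter_eq_right.mpr hyU, dim_preimage_eq]
  have hle : ∀ z : Y, topologicalKrullDim ↥((U.ι ≫ f).fiber z) ≤ n := by
    intro z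
    apply dim_fiber_le
    intro x _
    have h1 := Chev.fibreDimAt_eq_of_openImmersion_square (U.ι ≫ f) (𝟙 Y) U.ι f (by simp) x
    rw [← h1]
    exact x.2
  have h1 := nhds_le_dim_fiber (U.ι ≫ f) y (fun x _ => hgop x)
  refine ⟨_, h1, ?_⟩
  intro z hz
  rw [dim_inter_fibre_eq U f z, dim_inter_fibre_eq U f y]
  exact le_antisymm ((hle z).trans (le_of_eq hdimy.symm)) hz

end Groth.Agent.Lib.Helper24.OpenConst
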